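import Cfsg.Agent.DegreeGraph.Basic
import Cfsg.Agent.S0168
import Cfsg.Agent.S0081
import Cfsg.Agent.FrattiniTheory.Basic
import Cfsg.Agent.Characters.FixedPoints
import Cfsg.Agent.TwoDegrees73.Basic
import Cfsg.Agent.SameDegree.Basic
import Cfsg.Agent.OddOrderChar.Clifford

/-!
# Three degrees, two of them coprime: no non-abelian minimal normal subgroup
-/

set_option autoImplicit false
set_option linter.unusedSectionVars false
set_option linter.style.haveILetI false

namespace CfsgLib.ThreeDegrees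

open CfsgLib.Characters CfsgLib.OddOrderChar
open scoped ComplexConjugate commutatorElement

universe u

variable {G : Type u} [Group G] [Fintype G]

/-- All degrees are among `1`, `m` and `n`. -/
def DegIn (G : Type u) [Group G] (m n : ℕ) : Prop :=
  ∀ (χ : G → ℂ) (d : ℕ), Cfsg.IsIrrCharacter G χ → χ 1 = d → d = 1 ∨ d = m ∨ d = n

theorem isIrr_mul_hom {χ : G → ℂ} (h : Cfsg.IsIrrCharacter G χ) (lam : G →* ℂˣ) :
    Cfsg.IsIrrCharacter G (fun g => χ g * lam g) := by
  refine isIrr_of_classInner_self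
    (isCharacter_mul (isCharacter_of_isIrr h) (isCharacter_of_isIrr (isIrr_linChar lam))) ?_
  rw [← classInner_isIrr_self h]
  simp only [Cfsg.classInner, map_mul]
  congr 1
  refine Finset.sum_congr rfl fun g _ => ?_
  have h1 : (lam g : ℂ) ^ orderOf g = 1 := by
    rw [← Units.val_pow_eq_pow_val, ← map_pow, pow_orderOf_eq_one, map_one, Units.val_one]
  have h2 : (lam g : ℂ) * conj (lam g : ℂ) = 1 := by
    rw [Complex.mul_conj, Complex.normSq_eq_norm_sq,
      Complex.norm_eq_one_of_pow_eq_one h1 (orderOf_pos g).ne']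
    norm_num
  linear_combination (χ g * conj (χ g)) * h2

theorem hom_eq_one {W : Subgroup G} (hW : W ≤ commutator G) (lam : G →* ℂˣ) {w : G} (hw : w ∈ W) :
    lam w = 1 :=
  MonoidHom.mem_ker.1 (Abelianization.commutator_subset_ker lam (hW hw))

/-- An element acting trivially in a character acts trivially in every constituent. -/
theorem constituent_eq {ξ : G → ℂ} (hξ : Cfsg.IsCharacter G ξ) {ψ : G → ℂ}
    (hψ : Cfsg.IsIrrCharacter G ψ) (hne : Cfsg.classInner ξ ψ ≠ 0) {g : G} (hg : ξ g = ξ 1) :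
    ψ g = ψ 1 := by
  classical
  choose c hc using fun φ : Cfsg.IrrCharacter G => classInner_character_irr hξ φ.2
  choose d hd0 hd using fun φ : Cfsg.IrrCharacter G => exists_degree_pos φ.2
  have hexp := character_expansion hξ
  have hnorm : ∀ φ : Cfsg.IrrCharacter G, ‖(φ : G → ℂ) g‖ ≤ d φ := fun φ => by
    obtain ⟨k, ρ, -, hρ⟩ := φ.2
    have hk : (Module.finrank ℂ (Fin k → ℂ) : ℂ) = d φ := by
      rw [← Representation.char_one ρ, hρ, hd]
    rw [← hρ]
    refine (norm_char_le ρ g).trans_eq ?_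
    exact_mod_cast hk
  have h1 := congrArg Complex.re hg
  rw [hexp, Finset.sum_apply, Finset.sum_apply, Complex.re_sum, Complex.re_sum] at h1
  have hle : ∀ φ ∈ (Finset.univ : Finset (Cfsg.IrrCharacter G)),
      ((Cfsg.classInner ξ (φ : G → ℂ) • (φ : G → ℂ)) g).re ≤
        ((Cfsg.classInner ξ (φ : G → ℂ) • (φ : G → ℂ)) 1).re := fun φ _ => by
    simp only [Pi.smul_apply, smul_eq_mul, hc, hd, Complex.mul_re, Complex.natCast_re,
      Complex.natCast_im, zero_mul, sub_zero]
    exact mul_le_mul_of_nonneg_left ((Complex.re_le_norm _).trans (hnorm φ)) (Nat.cast_nonneg _)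
  have h2 := (Finset.sum_eq_sum_iff_of_le hle).1 h1 ⟨ψ, hψ⟩ (Finset.mem_univ _)
  simp only [Pi.smul_apply, smul_eq_mul] at h2
  rw [show Cfsg.classInner ξ ψ = _ from hc ⟨ψ, hψ⟩] at h2
  simp only [Complex.mul_re, Complex.natCast_re, Complex.natCast_im, zero_mul, sub_zero] at h2
  have hd' : ψ 1 = d ⟨ψ, hψ⟩ := hd ⟨ψ, hψ⟩
  have hc0 : (c ⟨ψ, hψ⟩ : ℝ) ≠ 0 := Nat.cast_ne_zero.2 fun e => hne (by
    rw [show Cfsg.classInner ξ ψ = _ from hc ⟨ψ, hψ⟩, e, Nat.cast_zero])
  have h3 := mul_left_cancel₀ hc0 h2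
  rw [hd', Complex.natCast_re] at h3
  have h4 : ‖ψ g‖ = d ⟨ψ, hψ⟩ :=
    le_antisymm (hnorm ⟨ψ, hψ⟩) (h3 ▸ Complex.re_le_norm _)
  rw [hd']
  refine Complex.ext (by rw [h3, Complex.natCast_re]) ?_
  have h5 := Complex.sq_norm (ψ g)
  rw [h4, Complex.normSq_apply, h3] at h5
  rw [Complex.natCast_im]
  exact mul_self_eq_zero.1 (by nlinarith)

section Counting

variable {m n : ℕ}

/-- The degree equation of a character. -/
theorem degree_split (h : DegIn G m n) {ξ : G → ℂ} (hξ : Cfsg.IsCharacter G ξ) {k : ℕ}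
    (hk : ξ 1 = k) (hm : 1 < m) (hmn : m < n)
    (hlin : ∀ lam : G →* ℂˣ, Cfsg.classInner ξ (fun g => (lam g : ℂ)) = 0) :
    ∃ a b : ℕ, k = a * m + b * n ∧
      (∀ ψ, Cfsg.IsIrrCharacter G ψ → ψ 1 = (m : ℂ) → Cfsg.classInner ξ ψ ≠ 0 → 0 < a) ∧
      (∀ ψ, Cfsg.IsIrrCharacter G ψ → ψ 1 = (n : ℂ) → Cfsg.classInner ξ ψ ≠ 0 → 0 < b) := by
  classical
  choose c hc using fun φ : Cfsg.IrrCharacter G => classInner_character_irr hξ φ.2
  choose d hd0 hd using fun φ : Cfsg.IrrCharacter G => exists_degree_pos φ.2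
  have hsum : k = ∑ φ, c φ * d φ := by
    apply Nat.cast_injective (R := ℂ)
    rw [← hk, character_expansion hξ, Finset.sum_apply, Nat.cast_sum]
    exact Finset.sum_congr rfl fun φ _ => by rw [Pi.smul_apply, smul_eq_mul, hc, hd, Nat.cast_mul]
  have hterm : ∀ φ, c φ * d φ = (if d φ = m then c φ else 0) * m + (if d φ = n then c φ else 0) * n := by
    intro φ
    rcases h _ _ φ.2 (hd φ) with e | e | e
    · obtain ⟨lam, hlam⟩ := exists_hom_of_degree_one (isCharacter_of_isIrr φ.2)
        (by rw [hd, e, Nat.cast_one])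
      have h0 : c φ = 0 := Nat.cast_injective (R := ℂ) (by rw [← hc, hlam, hlin, Nat.cast_zero])
      simp [h0]
    · rw [if_pos e, if_neg (by omega), e, zero_mul, add_zero]
    · rw [if_neg (by omega), if_pos e, e, zero_mul, zero_add]
  have hpos : ∀ e : ℕ, ∀ ψ, Cfsg.IsIrrCharacter G ψ → ψ 1 = (e : ℂ) → Cfsg.classInner ξ ψ ≠ 0 →
      0 < ∑ φ, if d φ = e then c φ else 0 := by
    intro e ψ hψ he hne
    refine lt_of_lt_of_le ?_ (Finset.single_le_sum (fun φ _ => Nat.zero_le _)
      (Finset.mem_univ (⟨ψ, hψ⟩ : Cfsg.IrrCharacter G)))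
    rw [if_pos (Nat.cast_injective (R := ℂ) ((hd ⟨ψ, hψ⟩).symm.trans he))]
    exact Nat.pos_of_ne_zero fun h0 => hne (by rw [hc ⟨ψ, hψ⟩, h0, Nat.cast_zero])
  refine ⟨∑ φ, if d φ = m then c φ else 0, ∑ φ, if d φ = n then c φ else 0, ?_, hpos m, hpos n⟩
  rw [hsum, Finset.sum_congr rfl fun φ _ => hterm φ, Finset.sum_add_distrib, Finset.sum_mul,
    Finset.sum_mul]

theorem classInner_mul_left (χ χ' ψ : G → ℂ) :
    Cfsg.classInner (fun g => χ g * χ' g) ψ = Cfsg.classInner χ' (fun g => conj (χ g) * ψ g) := by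
  simp only [Cfsg.classInner, map_mul, Complex.conj_conj]
  congr 1
  exact Finset.sum_congr rfl fun g _ => by ring

/-- Two characters of degree `m` which are not dual up to a linear factor. -/
theorem no_big_constituent (h : DegIn G m n) (hm : 1 < m) (hmn : m < n) (hcop : m.Coprime n)
    {χ χ' ψ : G → ℂ} (hχ : Cfsg.IsIrrCharacter G χ) (hχm : χ 1 = (m : ℂ))
    (hχ' : Cfsg.IsIrrCharacter G χ') (hχ'm : χ' 1 = (m : ℂ))
    (hψ : Cfsg.IsIrrCharacter G ψ) (hψn : ψ 1 = (n : ℂ))
    (hne : Cfsg.classInner (fun g => χ g * χ' g) ψ ≠ 0) :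
    ∃ lam : G →* ℂˣ, χ' = fun g => conj (χ g) * lam g := by
  by_contra hno
  push Not at hno
  obtain ⟨a, b, hab, -, hb⟩ := degree_split h
    (isCharacter_mul (isCharacter_of_isIrr hχ) (isCharacter_of_isIrr hχ'))
    (k := m * m) (by simp [hχm, hχ'm]) hm hmn fun lam => by
      show Cfsg.classInner (fun g => χ g * χ' g) _ = 0
      rw [classInner_mul_left]
      exact classInner_isIrr_ne hχ' (isIrr_mul_hom (isIrr_conj hχ) lam) (hno lam)
  have hb0 := hb ψ hψ hψn hne
  have h1 : m ∣ b := hcop.dvd_of_dvd_mul_right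
    ((Nat.dvd_add_right (dvd_mul_left m a)).1 (hab ▸ dvd_mul_left m m))
  have h2 : m * n ≤ b * n := Nat.mul_le_mul_right n (Nat.le_of_dvd hb0 h1)
  have h3 : m * m < m * n := (Nat.mul_lt_mul_left (by omega)).2 hmn
  omega

variable (W : Subgroup G) [W.Normal]

/-- The kernel of an irreducible character on a minimal normal subgroup. -/
theorem eq_one_of_bad (hmin : ∀ N : Subgroup G, N.Normal → N ≤ W → N = ⊥ ∨ N = W) {χ : G → ℂ}
    (hχ : Cfsg.IsIrrCharacter G χ) (hbad : ¬ ∀ w ∈ W, χ w = χ 1) {w : G} (hw : w ∈ W)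
    (h1 : χ w = χ 1) : w = 1 := by
  obtain ⟨k, ρ, hρi, hρc⟩ := hχ
  have hiff : ∀ g, χ g = χ 1 ↔ ρ g = 1 := fun g => by
    rw [← hρc, Representation.char_one, char_eq_finrank_iff]
    rfl
  let Z : Subgroup G :=
    { carrier := {x | x ∈ W ∧ χ x = χ 1}
      one_mem' := ⟨one_mem _, rfl⟩
      mul_mem' := fun {a c} ha hc => ⟨mul_mem ha.1 hc.1, by
        rw [hiff, map_mul, (hiff a).1 ha.2, (hiff c).1 hc.2, one_mul]⟩
      inv_mem' := fun {a} ha => ⟨inv_mem ha.1, by
        rw [hiff]
        have := map_mul ρ a⁻¹ a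
        rw [inv_mul_cancel, map_one, (hiff a).1 ha.2, mul_one] at this
        exact this.symm⟩ }
  have hn : Z.Normal := ⟨fun x hx g => ⟨(inferInstance : W.Normal).conj_mem x hx.1 g, by
    rw [isClassFunction_of_isIrr ⟨k, ρ, hρi, hρc⟩ x g]; exact hx.2⟩⟩
  rcases hmin Z hn (fun x hx => hx.1) with e | e
  · exact (Subgroup.eq_bot_iff_forall Z).1 e w ⟨hw, h1⟩
  · exact absurd (fun x hx => ((e.symm ▸ hx : x ∈ Z)).2) hbad

/-- A bad character does not vanish on the non-identity elements of `W`. -/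
theorem not_vanish [Fintype W] {χ : G → ℂ} (hχ : Cfsg.IsIrrCharacter G χ)
    (hbad : ¬ ∀ w ∈ W, χ w = χ 1) : ∃ w ∈ W, w ≠ 1 ∧ χ w ≠ 0 := by
  classical
  by_contra hno
  push Not at hno
  have h1 : Cfsg.classInner (fun w : W => χ w) (fun _ => (1 : ℂ)) ≠ 0 := by
    rw [Cfsg.classInner, Finset.sum_eq_single (1 : W)
      (fun w _ hw => by rw [hno w w.2 fun e => hw (Subtype.ext e), zero_mul])
      (fun h => absurd (Finset.mem_univ _) h)]
    simp [irr_one_ne_zero hχ, subgroup_card_ne_zero W]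
  have h2 := clifford_restrict_invariant W hχ isIrr_one (fun g => rfl) h1
  refine hbad fun w hw => ?_
  have hw' := congrFun h2 ⟨w, hw⟩
  have h0 := congrFun h2 1
  simp only [Pi.smul_apply, Subgroup.coe_one] at hw' h0
  rw [hw', h0]

/-- Constituents of degree `n` of products of degree `m` are trivial on `W`. -/
theorem big_trivial [Fintype W] (h : DegIn G m n) (hm : 1 < m) (hmn : m < n) (hcop : m.Coprime n)
    (hW : W ≤ commutator G) (hmin : ∀ N : Subgroup G, N.Normal → N ≤ W → N = ⊥ ∨ N = W)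
    {χ χ' ψ : G → ℂ} (hχ : Cfsg.IsIrrCharacter G χ) (hχm : χ 1 = (m : ℂ))
    (hχ' : Cfsg.IsIrrCharacter G χ') (hχ'm : χ' 1 = (m : ℂ))
    (hψ : Cfsg.IsIrrCharacter G ψ) (hψn : ψ 1 = (n : ℂ))
    (hne : Cfsg.classInner (fun g => χ g * χ' g) ψ ≠ 0) : ∀ w ∈ W, ψ w = ψ 1 := by
  classical
  -- it suffices to treat `χ conj χ`
  suffices key : ∀ φ : G → ℂ, Cfsg.IsIrrCharacter G φ → φ 1 = (n : ℂ) →
      Cfsg.classInner (fun g => χ g * conj (χ g)) φ ≠ 0 → ∀ w ∈ W, φ w = φ 1 by
    obtain ⟨lam, rfl⟩ := no_big_constituent h hm hmn hcop hχ hχm hχ' hχ'm hψ hψn hne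
    have h1 := key (fun g => ψ g * (lam⁻¹ : G →* ℂˣ) g) (isIrr_mul_hom hψ _) (by simp [hψn]) ?_
    · intro w hw
      simpa [hom_eq_one hW lam hw] using h1 w hw
    · refine fun h0 => hne (Eq.trans ?_ h0)
      simp only [Cfsg.classInner, map_mul]
      congr 1
      refine Finset.sum_congr rfl fun g _ => ?_
      have h1 : (lam g : ℂ) ^ orderOf g = 1 := by
        rw [← Units.val_pow_eq_pow_val, ← map_pow, pow_orderOf_eq_one, map_one, Units.val_one]
      have h2 : conj (((lam⁻¹ : G →* ℂˣ) g : ℂˣ) : ℂ) = (lam g : ℂ) := by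
        rw [MonoidHom.inv_apply, Units.val_inv_eq_inv_val, map_inv₀,
          ← Complex.inv_eq_conj (Complex.norm_eq_one_of_pow_eq_one h1 (orderOf_pos g).ne'), inv_inv]
      rw [h2]
      ring
  intro φ hφ hφn hφne
  by_cases hbad : ∀ w ∈ W, χ w = χ 1
  · exact fun w hw => constituent_eq
      (isCharacter_mul (isCharacter_of_isIrr hχ) (isCharacter_conj (isCharacter_of_isIrr hχ)))
      hφ hφne (by simp [hbad w hw])
  by_contra hφbad
  have hξ : Cfsg.IsCharacter G (fun g => χ g * φ g) :=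
    isCharacter_mul (isCharacter_of_isIrr hχ) (isCharacter_of_isIrr hφ)
  have hnd : ∀ lam : G →* ℂˣ, Cfsg.classInner (fun g => χ g * φ g) (fun g => (lam g : ℂ)) = 0 := by
    intro lam
    rw [classInner_mul_left]
    refine classInner_isIrr_ne hφ (isIrr_mul_hom (isIrr_conj hχ) lam) fun e => ?_
    have h1 := congrFun e 1
    simp only [hφn, hχm, map_one, Units.val_one, mul_one, Complex.conj_natCast, Nat.cast_inj] at h1
    omega
  have hcont : Cfsg.classInner (fun g => χ g * φ g) χ ≠ 0 := by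
    intro h0
    refine hφne ?_
    rw [classInner_conj_symm, ← map_zero (starRingEnd ℂ)]
    congr 1
    rw [classInner_mul_left] at h0
    refine Eq.trans ?_ h0
    congr 1
    funext g
    ring
  obtain ⟨a, b, hab, ha, hb⟩ := degree_split h hξ (k := m * n) (by simp [hχm, hφn]) hm hmn hnd
  have hb0 : b = 0 := by
    by_contra hb0
    have h1 : n ∣ a := hcop.symm.dvd_of_dvd_mul_right
      ((Nat.dvd_add_left (dvd_mul_left n b)).1 (hab ▸ dvd_mul_left n m))
    have h2 : n * m ≤ a * m := Nat.mul_le_mul_right m (Nat.le_of_dvd (ha χ hχ hχm hcont) h1)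
    have h3 : 0 < b * n := Nat.mul_pos (Nat.pos_of_ne_zero hb0) (by omega)
    rw [mul_comm n m] at h2
    omega
  -- every constituent is a twist of `χ`
  have hval : ∀ w ∈ W, χ w * φ w = n * χ w := by
    intro w hw
    have hexp := character_expansion hξ
    have hterm : ∀ θ : Cfsg.IrrCharacter G, Cfsg.classInner (fun g => χ g * φ g) (θ : G → ℂ) *
        (θ : G → ℂ) w * m = Cfsg.classInner (fun g => χ g * φ g) (θ : G → ℂ) * (θ : G → ℂ) 1 * χ w := by
      intro θ
      by_cases h0 : Cfsg.classInner (fun g => χ g * φ g) (θ : G → ℂ) = 0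
      · rw [h0]; ring
      obtain ⟨d, -, hd⟩ := exists_degree_pos θ.2
      have hdm : (θ : G → ℂ) 1 = (m : ℂ) := by
        rcases h _ d θ.2 hd with e | e | e
        · obtain ⟨lam, hlam⟩ := exists_hom_of_degree_one (isCharacter_of_isIrr θ.2)
            (by rw [hd, e, Nat.cast_one])
          exact absurd (by rw [hlam]; exact hnd lam) h0
        · rw [hd, e]
        · exact absurd (hb θ θ.2 (by rw [hd, e]) h0) (by omega)
      have h1 : Cfsg.classInner (fun g => conj (χ g) * (θ : G → ℂ) g) φ ≠ 0 := by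
        rw [classInner_conj_symm, ← classInner_mul_left]
        simpa using h0
      obtain ⟨lam, hlam⟩ := no_big_constituent h hm hmn hcop (isIrr_conj hχ)
        (by simp [hχm]) θ.2 hdm hφ hφn h1
      rw [hdm, hlam]
      simp [hom_eq_one hW lam hw, mul_assoc, mul_comm (χ w)]
    have h1 := congrFun hexp w
    have h2 := congrFun hexp 1
    simp only [Finset.sum_apply, Pi.smul_apply, smul_eq_mul] at h1 h2
    refine mul_right_cancel₀ (Nat.cast_ne_zero.2 (show m ≠ 0 by omega)) ?_
    rw [h1, Finset.sum_mul, Finset.sum_congr rfl fun θ _ => hterm θ, ← Finset.sum_mul, ← h2, hχm, hφn]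
    ring
  obtain ⟨w, hw, hw1, hw0⟩ := not_vanish W hχ hbad
  refine hw1 (eq_one_of_bad W hmin hφ hφbad hw ?_)
  rw [hφn]
  exact mul_left_cancel₀ hw0 ((hval w hw).trans (mul_comm _ _))

/-- Three degrees, two of them coprime: every minimal normal subgroup is abelian. -/
theorem no_nonabelian_minimal [Fintype W] (h : DegIn G m n) (hm : 1 < m) (hmn : m < n)
    (hcop : m.Coprime n) (hne : W ≠ ⊥)
    (hmin : ∀ N : Subgroup G, N.Normal → N ≤ W → N = ⊥ ∨ N = W) : ⁅W, W⁆ = ⊥ := by
  classical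
  rcases hmin ⁅W, W⁆ inferInstance (Subgroup.commutator_le_self W) with e | hperf
  · exact e
  exfalso
  have hW : W ≤ commutator G := by
    rw [← hperf, commutator_def]
    exact Subgroup.commutator_mono le_top le_top
  have hlin : ∀ θ : W → ℂ, Cfsg.IsIrrCharacter W θ → θ 1 = 1 → θ = fun _ => 1 := by
    intro θ hθ h1
    obtain ⟨f, rfl⟩ := exists_hom_of_degree_one (isCharacter_of_isIrr hθ) h1
    have hc : commutator W = ⊤ := Subgroup.map_injective W.subtype_injective (by
      rw [Subgroup.map_subtype_commutator, hperf, ← MonoidHom.range_eq_map, Subgroup.range_subtype])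
    funext x
    have hx : x ∈ commutator W := hc ▸ Subgroup.mem_top x
    rw [MonoidHom.mem_ker.1 (Abelianization.commutator_subset_ker f hx), Units.val_one]
  have hunder : ∀ χ : G → ℂ, Cfsg.IsIrrCharacter G χ → (∀ w ∈ W, χ w = χ 1) → ∀ θ : W → ℂ,
      Cfsg.IsIrrCharacter W θ → Cfsg.classInner (fun w : W => χ w) θ ≠ 0 → θ = fun _ => 1 := by
    intro χ hχ htriv θ hθ hne'
    by_contra hθ1
    refine hne' ?_
    rw [show (fun w : W => χ w) = χ 1 • fun _ : W => (1 : ℂ) from funext fun w => by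
      simp [htriv w w.2], classInner_smul_left, classInner_isIrr_ne isIrr_one hθ (Ne.symm hθ1),
      mul_zero]
  -- all characters which are not trivial on `W` have the same degree
  obtain ⟨d, hd1, hd⟩ : ∃ d : ℕ, 1 < d ∧ ∀ χ, Cfsg.IsIrrCharacter G χ → (¬ ∀ w ∈ W, χ w = χ 1) →
      χ 1 = (d : ℂ) := by
    have hdeg : ∀ χ, Cfsg.IsIrrCharacter G χ → (¬ ∀ w ∈ W, χ w = χ 1) →
        χ 1 = (m : ℂ) ∨ χ 1 = (n : ℂ) := by
      intro χ hχ hbad
      obtain ⟨e, -, he⟩ := exists_degree_pos hχ
      rcases h χ e hχ he with e1 | e1 | e1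
      · exfalso
        obtain ⟨lam, rfl⟩ := exists_hom_of_degree_one (isCharacter_of_isIrr hχ)
          (by rw [he, e1, Nat.cast_one])
        exact hbad fun w hw => by simp [hom_eq_one hW lam hw]
      · exact Or.inl (by rw [he, e1])
      · exact Or.inr (by rw [he, e1])
    by_cases hex : ∃ χ, Cfsg.IsIrrCharacter G χ ∧ χ 1 = (m : ℂ) ∧ ¬ ∀ w ∈ W, χ w = χ 1
    swap
    · exact ⟨n, by omega, fun χ hχ hbad => (hdeg χ hχ hbad).resolve_left fun e => hex ⟨χ, hχ, e, hbad⟩⟩
    obtain ⟨χ, hχ, hχm, hbad⟩ := hex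
    let Good : (W → ℂ) → Prop := fun θ => θ = (fun _ => 1) ∨
      ∃ χ', Cfsg.IsIrrCharacter G χ' ∧ χ' 1 = (m : ℂ) ∧ Cfsg.classInner (fun w : W => χ' w) θ ≠ 0
    have hχW : Cfsg.IsCharacter W (fun w : W => χ w) := isCharacter_restrict W (isCharacter_of_isIrr hχ)
    -- every constituent of a product is good
    have hprod : ∀ θ θ' : W → ℂ, Cfsg.IsIrrCharacter W θ → Good θ → Cfsg.IsIrrCharacter W θ' →
        Cfsg.classInner (fun w => θ w * χ w) θ' ≠ 0 → Good θ' := by
      intro θ θ' hθ hgood hθ' hne'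
      rcases hgood with rfl | ⟨χ', hχ', hχ'm, hcon⟩
      · exact Or.inr ⟨χ, hχ, hχm, by simpa using hne'⟩
      have hξ : Cfsg.IsCharacter G (fun g => χ' g * χ g) :=
        isCharacter_mul (isCharacter_of_isIrr hχ') (isCharacter_of_isIrr hχ)
      have hχ'W : Cfsg.IsCharacter W (fun w : W => χ' w) :=
        isCharacter_restrict W (isCharacter_of_isIrr hχ')
      have hne2 : Cfsg.classInner (fun w : W => χ' w * χ w) θ' ≠ 0 := by
        choose c hc using fun φ : Cfsg.IrrCharacter W => classInner_character_irr hχ'W φ.2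
        choose e he using fun φ : Cfsg.IrrCharacter W =>
          (show ∃ e : ℕ, Cfsg.classInner (fun w => (φ : W → ℂ) w * χ w) θ' = (e : ℂ) from
            classInner_character_irr (isCharacter_mul (isCharacter_of_isIrr φ.2) hχW) hθ')
        have hsum : Cfsg.classInner (fun w : W => χ' w * χ w) θ' = ((∑ φ, c φ * e φ : ℕ) : ℂ) := by
          rw [show (fun w : W => χ' w * χ w) =
            ∑ φ : Cfsg.IrrCharacter W, (c φ : ℂ) • fun w => (φ : W → ℂ) w * χ w from funext fun w => by
              have h1 := congrFun (character_expansion hχ'W) w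
              simp only [Finset.sum_apply, Pi.smul_apply, smul_eq_mul, hc] at h1 ⊢
              rw [h1, Finset.sum_mul]
              exact Finset.sum_congr rfl fun φ _ => by ring,
            classInner_sum_left, Nat.cast_sum]
          exact Finset.sum_congr rfl fun φ _ => by rw [classInner_smul_left, he, Nat.cast_mul]
        rw [hsum, Nat.cast_ne_zero]
        refine fun h0 => ?_
        rcases Nat.mul_eq_zero.1 (Finset.sum_eq_zero_iff.1 h0 ⟨θ, hθ⟩ (Finset.mem_univ _)) with h1 | h1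
        · exact hcon (by rw [hc ⟨θ, hθ⟩, h1, Nat.cast_zero])
        · exact hne' (by rw [he ⟨θ, hθ⟩, h1, Nat.cast_zero])
      obtain ⟨ψ, hψne, hψc⟩ : ∃ ψ : Cfsg.IrrCharacter G,
          Cfsg.classInner (fun g => χ' g * χ g) (ψ : G → ℂ) ≠ 0 ∧
          Cfsg.classInner (fun w : W => (ψ : G → ℂ) w) θ' ≠ 0 := by
        by_contra hno
        push Not at hno
        refine hne2 ?_
        rw [show (fun w : W => χ' w * χ w) = ∑ ψ : Cfsg.IrrCharacter G,
          Cfsg.classInner (fun g => χ' g * χ g) (ψ : G → ℂ) • fun w : W => (ψ : G → ℂ) w from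
            funext fun w => by simpa using congrFun (character_expansion hξ) (w : G),
          classInner_sum_left]
        refine Finset.sum_eq_zero fun ψ _ => ?_
        rw [classInner_smul_left]
        by_cases h0 : Cfsg.classInner (fun g => χ' g * χ g) (ψ : G → ℂ) = 0
        · rw [h0, zero_mul]
        · rw [hno ψ h0, mul_zero]
      by_cases hψt : ∀ w ∈ W, (ψ : G → ℂ) w = (ψ : G → ℂ) 1
      · exact Or.inl (hunder _ ψ.2 hψt θ' hθ' hψc)
      rcases hdeg _ ψ.2 hψt with e | e
      · exact Or.inr ⟨ψ, ψ.2, e, hψc⟩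
      · exact absurd (big_trivial W h hm hmn hcop hW hmin hχ' hχ'm hχ hχm ψ.2 e hψne) hψt
    have hpow : ∀ (i : ℕ) (θ : W → ℂ), Cfsg.IsIrrCharacter W θ →
        Cfsg.classInner (fun w : W => χ w ^ i) θ ≠ 0 → Good θ := by
      intro i
      induction i with
      | zero =>
        intro θ hθ hne'
        refine Or.inl ?_
        by_contra hθ1
        refine hne' ?_
        simp only [pow_zero]
        exact classInner_isIrr_ne isIrr_one hθ (Ne.symm hθ1)
      | succ i ih =>
        intro θ' hθ' hne'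
        have hchar : Cfsg.IsCharacter W (fun w : W => χ w ^ i) := by
          clear ih hne'
          induction i with
          | zero => simpa using isCharacter_of_isIrr isIrr_one
          | succ i ih => simpa [pow_succ, Pi.mul_def] using isCharacter_mul ih hχW
        by_contra hbad'
        refine hne' ?_
        rw [show (fun w : W => χ w ^ (i + 1)) = ∑ φ : Cfsg.IrrCharacter W,
          Cfsg.classInner (fun w : W => χ w ^ i) (φ : W → ℂ) • fun w => (φ : W → ℂ) w * χ w from
            funext fun w => by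
              have h1 := congrFun (character_expansion hchar) w
              simp only [Finset.sum_apply, Pi.smul_apply, smul_eq_mul] at h1 ⊢
              rw [pow_succ, h1, Finset.sum_mul]
              exact Finset.sum_congr rfl fun φ _ => by ring,
          classInner_sum_left]
        refine Finset.sum_eq_zero fun φ _ => ?_
        rw [classInner_smul_left]
        by_cases h0 : Cfsg.classInner (fun w : W => χ w ^ i) (φ : W → ℂ) = 0
        · rw [h0, zero_mul]
        · rw [show Cfsg.classInner (fun w => (φ : W → ℂ) w * χ w) θ' = 0 from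
            by_contra fun h1 => hbad' (hprod _ _ φ.2 (ih _ φ.2 h0) hθ' h1), mul_zero]
    refine ⟨m, hm, fun χ₁ hχ₁ hbad₁ => (hdeg χ₁ hχ₁ hbad₁).resolve_right fun hn1 => ?_⟩
    obtain ⟨θ, hθ, hθne⟩ := DegreeGraph.exists_under W hχ₁
    obtain ⟨k, ρ, hρ, hρc⟩ := hχ
    have hfaith : Function.Injective (ρ.comp W.subtype) := by
      rw [injective_iff_map_eq_one]
      intro w hw
      refine Subtype.ext (eq_one_of_bad W hmin ⟨k, ρ, hρ, hρc⟩ hbad w.2 ?_)
      rw [← hρc, Representation.character, Representation.character,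
        show ρ (w : G) = 1 from hw, map_one ρ]
    obtain ⟨i, -, hi⟩ := Cfsg.Agent.S0168.result (ρ.comp W.subtype) hfaith θ hθ
    have hgood := hpow i θ hθ (by rw [← hρc]; exact hi)
    have hθ1 : θ ≠ fun _ => 1 := by
      rintro rfl
      refine hbad₁ fun w hw => ?_
      have h2 := clifford_restrict_invariant W hχ₁ isIrr_one (fun g => rfl) hθne
      have hw' := congrFun h2 ⟨w, hw⟩
      have h0 := congrFun h2 1
      simp only [Pi.smul_apply, Subgroup.coe_one] at hw' h0
      rw [hw', h0]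
    obtain ⟨χ₂, hχ₂, hχ₂m, hθ₂⟩ := hgood.resolve_left hθ1
    obtain ⟨e1, k1, he1, hk1, -, -⟩ := DegreeGraph.exists_ratio W hχ₁ hθ hθne hn1
    obtain ⟨e2, k2, he2, hk2, -, -⟩ := DegreeGraph.exists_ratio W hχ₂ hθ hθ₂ hχ₂m
    obtain rfl : e1 = e2 := Nat.cast_injective (R := ℂ) (he1.symm.trans he2)
    have h1 : e1 = 1 := Nat.eq_one_of_dvd_coprimes hcop ⟨k2, hk2⟩ ⟨k1, hk1⟩
    exact hθ1 (hlin θ hθ (by rw [he1, h1, Nat.cast_one]))
  -- the primes of that degree do not divide the order of `W`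
  have hprimes : ∀ p : ℕ, p.Prime → p ∣ d → ¬ p ∣ Nat.card W := by
    intro p hp hpd
    haveI := Fact.mk hp
    obtain ⟨P⟩ : Nonempty (Sylow p G) := inferInstance
    haveI := Fintype.ofFinite (P : Subgroup G)
    have hPW : ∀ (lam : (P : Subgroup G) →* ℂˣ) (x : (P : Subgroup G)), (x : G) ∈ W → lam x = 1 := by
      intro lam x hx
      have hind := OddOrderChar.isCharacter_indFun (P : Subgroup G) (isCharacter_of_isIrr (isIrr_linChar lam))
      obtain ⟨ψ, hψc, hψp⟩ : ∃ ψ : Cfsg.IrrCharacter G,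
          Cfsg.classInner (Cfsg.indFun (P : Subgroup G) fun y => (lam y : ℂ)) (ψ : G → ℂ) ≠ 0 ∧
          ∃ e : ℕ, (ψ : G → ℂ) 1 = e ∧ ¬ p ∣ e := by
        by_contra hno
        push Not at hno
        choose c hc using fun ψ : Cfsg.IrrCharacter G => classInner_character_irr hind ψ.2
        choose e he0 he using fun ψ : Cfsg.IrrCharacter G => exists_degree_pos ψ.2
        refine P.not_dvd_index ?_
        have hidx : (P : Subgroup G).index = ∑ ψ, c ψ * e ψ := by
          apply Nat.cast_injective (R := ℂ)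
          have h1 := congrFun (character_expansion hind) 1
          rw [OddOrderChar.indFun_one, map_one, Units.val_one, mul_one] at h1
          rw [h1, Finset.sum_apply, Nat.cast_sum]
          exact Finset.sum_congr rfl fun ψ _ => by rw [Pi.smul_apply, smul_eq_mul, hc, he, Nat.cast_mul]
        rw [hidx]
        refine Finset.dvd_sum fun ψ _ => ?_
        by_cases h0 : c ψ = 0
        · simp [h0]
        · exact Dvd.dvd.mul_left (hno ψ (by rw [hc]; exact_mod_cast h0) (e ψ) (he ψ)) _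
      obtain ⟨e, he, hpe⟩ := hψp
      have htriv : ∀ w ∈ W, (ψ : G → ℂ) w = (ψ : G → ℂ) 1 := by
        by_contra hbad
        have := hd _ ψ.2 hbad
        rw [he, Nat.cast_inj] at this
        exact hpe (this ▸ hpd)
      rw [classInner_indFun_left _ _ (isClassFunction_of_isIrr ψ.2), classInner_conj_symm] at hψc
      have hψc' : Cfsg.classInner (fun y : (P : Subgroup G) => (ψ : G → ℂ) y) (fun y => (lam y : ℂ)) ≠ 0 :=
        fun h0 => hψc (by rw [h0, map_zero])
      have h2 := constituent_eq (isCharacter_restrict _ (isCharacter_of_isIrr ψ.2))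
        (isIrr_linChar lam) hψc' (g := x) (by simpa using htriv x hx)
      simpa using h2
    have hfr : W ⊓ (P : Subgroup G) ≤ (frattini P).map (P : Subgroup G).subtype := by
      intro x hx
      haveI := P.isPGroup'.isNilpotent
      refine ⟨⟨x, hx.2⟩, FrattiniTheory.commutator_le_frattini_of_nilpotent ?_, rfl⟩
      rw [← Abelianization.ker_of, MonoidHom.mem_ker]
      refine TwoDegrees73.eq_of_forall_hom fun mu => ?_
      rw [map_one]
      exact hPW (mu.comp Abelianization.of) ⟨x, hx.2⟩ hx.1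
    intro hpW
    have hres := Cfsg.Agent.S0081.card_residual_of_tate P W hfr
    have hmap : ((Cfsg.pResidual p W).map W.subtype).Normal := by
      haveI : (Cfsg.pResidual p W).Characteristic := Transfer.pResidual_characteristic
      infer_instance
    rcases hmin _ hmap (Subgroup.map_subtype_le _) with e | e
    · rw [Subgroup.map_eq_bot_iff_of_injective _ W.subtype_injective] at e
      haveI : Group.IsNilpotent W := by
        have h1 := Transfer.isPGroup_quotient_pResidual (p := p) (G := W)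
        refine IsPGroup.isNilpotent (p := p) fun w => ?_
        obtain ⟨k, hk⟩ := h1 (QuotientGroup.mk w)
        refine ⟨k, ?_⟩
        rw [← QuotientGroup.mk_pow, QuotientGroup.eq_one_iff, e, Subgroup.mem_bot] at hk
        exact hk
      haveI : Nontrivial W := (Subgroup.nontrivial_iff_ne_bot W).2 hne
      refine (Group.IsSolvable.commutator_lt_top_of_nontrivial W).ne
        (Subgroup.map_injective W.subtype_injective ?_)
      rw [Subgroup.map_subtype_commutator, hperf, ← MonoidHom.range_eq_map, Subgroup.range_subtype]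
    · rw [← Subgroup.card_subtype] at hres
      rw [e] at hres
      exact hres hpW
  obtain ⟨w, hw, hw1⟩ := (Subgroup.ne_bot_iff_exists_ne_one.1 hne).elim
    fun y hy => (⟨y.1, y.2, fun e => hy (Subtype.ext e)⟩ : ∃ w, w ∈ W ∧ w ≠ 1)
  obtain ⟨χ, hχw⟩ := SameDegree.exists_irr_ne hw1
  have hbad : ¬ ∀ v ∈ W, (χ : G → ℂ) v = (χ : G → ℂ) 1 := fun hv => hχw (hv w hw)
  obtain ⟨θ, hθ, hθne⟩ := DegreeGraph.exists_under W χ.2
  obtain ⟨e, k, he, hek, -, he0⟩ := DegreeGraph.exists_ratio W χ.2 hθ hθne (hd _ χ.2 hbad)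
  obtain ⟨j, ρ, hρ, hρc⟩ := hθ
  have hje : j = e := by
    have h1 := Representation.char_one ρ
    rw [hρc, he, Module.finrank_fin_fun, Nat.cast_inj] at h1
    exact h1.symm
  have hcard : e ∣ Nat.card W := by
    have h1 := Characters.finrank_dvd_card ρ
    rwa [Module.finrank_fin_fun, hje] at h1
  have he1 : e = 1 := Nat.eq_one_iff_not_exists_prime_dvd.2 fun q hq hqe =>
    hprimes q hq (hek ▸ hqe.trans (dvd_mul_right e k)) (hqe.trans hcard)
  have hθ1 := hlin θ ⟨j, ρ, hρ, hρc⟩ (by rw [he, he1, Nat.cast_one])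
  subst hθ1
  refine hbad fun v hv => ?_
  have h2 := clifford_restrict_invariant W χ.2 isIrr_one (fun g => rfl) hθne
  have hw' := congrFun h2 ⟨v, hv⟩
  have h0 := congrFun h2 1
  simp only [Pi.smul_apply, Subgroup.coe_one] at hw' h0
  rw [hw', h0]

end Counting

end CfsgLib.ThreeDegrees
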