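import Cfsg.Agent.ThreeDegrees.Tools
import Cfsg.Agent.IsaacsPassman.Main
import Cfsg.Agent.S4456

/-!
# Three character degrees give derived length at most three
-/

set_option autoImplicit false
set_option linter.unusedSectionVars false
set_option linter.style.haveILetI false

namespace CfsgLib.ThreeDegrees

open CfsgLib.Characters CfsgLib.OddOrderChar CfsgLib.CharactersDeep
open scoped ComplexConjugate commutatorElement

universe u

variable {G : Type u} [Group G] [Fintype G] {m n : ℕ}

/-- Two factorisations into a part prime to `p` and a power of `p`. -/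
theorem part_unique {p : ℕ} (hp : p.Prime) {d e i j : ℕ} (hd : ¬ p ∣ d) (he : ¬ p ∣ e)
    (h : d * p ^ i = p ^ j * e) : d = e := by
  refine Nat.dvd_antisymm ?_ ?_
  · exact ((hp.coprime_iff_not_dvd.2 hd).pow_left j).symm.dvd_of_dvd_mul_left
      (h ▸ dvd_mul_right d _)
  · exact ((hp.coprime_iff_not_dvd.2 he).pow_left i).symm.dvd_of_dvd_mul_right
      (h.symm ▸ dvd_mul_left e _)

/-- Below a normal subgroup of `p`-power index. -/
theorem under_pPart {p k : ℕ} (hp : p.Prime) (M : Subgroup G) [M.Normal] [Fintype M]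
    (hM : (Nat.card M).Coprime p) (hk : M.index = p ^ k) {χ : G → ℂ}
    (hχ : Cfsg.IsIrrCharacter G χ) {θ : M → ℂ} (hθ : Cfsg.IsIrrCharacter M θ)
    (hne : Cfsg.classInner (fun x : M => χ x) θ ≠ 0) {c : ℕ} (hc : χ 1 = c) :
    ∃ d i : ℕ, θ 1 = d ∧ c = d * p ^ i ∧ ¬ p ∣ d := by
  obtain ⟨d, e, hd, rfl, he, -⟩ := DegreeGraph.exists_ratio M hχ hθ hne hc
  obtain ⟨i, -, rfl⟩ := (Nat.dvd_prime_pow hp).1 (hk ▸ he)
  refine ⟨d, i, hd, rfl, fun hpd => ?_⟩
  obtain ⟨j, ρ, hρi, hρ⟩ := hθ
  have hjd : j = d := by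
    have h1 := Representation.char_one ρ
    rw [hρ, hd, Module.finrank_fin_fun, Nat.cast_inj] at h1
    exact h1.symm
  have hdvd : d ∣ Nat.card M := by
    haveI := hρi
    have h1 := Characters.finrank_dvd_card ρ
    rwa [Module.finrank_fin_fun, hjd] at h1
  exact hp.ne_one (Nat.eq_one_of_dvd_coprimes hM (hpd.trans hdvd) dvd_rfl)

/-- A prime divides all nonlinear degrees. -/
theorem prime_case (ih : ∀ (H : Type u) [Group H] [Fintype H], Nat.card H < Nat.card G →
      ∀ a b : ℕ, DegIn H a b → derivedSeries H 3 = ⊥)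
    {p : ℕ} (hp : p.Prime) (hm : 0 < m) (hn : 0 < n) (h : DegIn G m n)
    (hdvd : ∀ (χ : G → ℂ) (d : ℕ), Cfsg.IsIrrCharacter G χ → χ 1 = d → d ≠ 1 → p ∣ d)
    (hna : commutator G ≠ ⊥) : derivedSeries G 3 = ⊥ := by
  classical
  haveI := Fact.mk hp
  obtain ⟨M, hMn, hMc, k, hk⟩ := Cfsg.Agent.S4456.result (G := G) p hp fun χ hχ => by
    obtain ⟨d, -, hd⟩ := exists_degree_pos χ.2
    rw [DegreeGraph.charDegree_eq hd] at hχ ⊢
    exact hdvd _ d χ.2 hd hχ
  haveI := hMn
  haveI := Fintype.ofFinite M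
  obtain ⟨χ₀, hχ₀⟩ := SameDegree.exists_nonlinear hna
  -- `M` is proper
  have hMlt : Nat.card M < Nat.card G := by
    refine lt_of_le_of_ne (Subgroup.card_le_card_group M) fun e => ?_
    obtain ⟨d, -, hd⟩ := exists_degree_pos χ₀.2
    have hd1 : d ≠ 1 := fun e1 => hχ₀ (by rw [hd, e1, Nat.cast_one])
    obtain ⟨j, ρ, hρ, hρc⟩ := χ₀.2
    have hjd : j = d := by
      have h1 := Representation.char_one ρ
      rw [hρc, hd, Module.finrank_fin_fun, Nat.cast_inj] at h1
      exact h1.symm
    have hdG : d ∣ Nat.card G := by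
      haveI := hρ
      have h1 := Characters.finrank_dvd_card ρ
      rwa [Module.finrank_fin_fun, hjd] at h1
    exact hp.ne_one (Nat.eq_one_of_dvd_coprimes hMc
      (e ▸ (hdvd _ d χ₀.2 hd hd1).trans hdG) dvd_rfl)
  obtain ⟨jm, m', hmd, hm'⟩ := Nat.exists_eq_pow_mul_and_not_dvd hm.ne' p hp.ne_one
  obtain ⟨jn, n', hnd, hn'⟩ := Nat.exists_eq_pow_mul_and_not_dvd hn.ne' p hp.ne_one
  have hMdeg : DegIn M m' n' := by
    intro θ d hθ hd
    obtain ⟨χ, hχ, hne⟩ := CharactersDeep.Clifford.exists_over M hθ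
    obtain ⟨c, -, hc⟩ := exists_degree_pos hχ
    obtain ⟨d', i, hd', hci, hpd⟩ := under_pPart hp M hMc hk hχ hθ hne hc
    obtain rfl : d = d' := Nat.cast_injective (R := ℂ) (hd.symm.trans hd')
    rcases h χ c hχ hc with e | e | e
    · exact Or.inl (Nat.eq_one_of_mul_eq_one_right (hci.symm.trans e))
    · exact Or.inr (Or.inl (part_unique hp hpd hmd (hci.symm.trans (e.trans hm'))))
    · exact Or.inr (Or.inr (part_unique hp hpd hnd (hci.symm.trans (e.trans hn'))))
  set M' := (commutator M).map M.subtype with hM'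
  haveI : M'.Normal := inferInstance
  -- degrees of the quotient by `M'`
  have hquot : ∀ (β : G ⧸ M' → ℂ) (c : ℕ), Cfsg.IsIrrCharacter (G ⧸ M') β → β 1 = c →
      (c = 1 ∨ c = m ∨ c = n) ∧ (c = m → m' = 1) ∧ (c = n → n' = 1) := by
    intro β c hβ hc
    haveI := Fintype.ofFinite (G ⧸ M')
    have hlift := isIrr_comp (QuotientGroup.mk' M') (QuotientGroup.mk'_surjective M') hβ
    have hc' : (fun g => β (QuotientGroup.mk' M' g)) 1 = (c : ℂ) := by simpa using hc
    obtain ⟨θ, hθ, hne⟩ := DegreeGraph.exists_under M hlift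
    obtain ⟨d, i, hd, hci, hpd⟩ := under_pPart hp M hMc hk hlift hθ hne hc'
    have hd1 : d = 1 := by
      have h1 : θ 1 = 1 := eq_one_of_const_commutator hθ fun w hw =>
        constituent_eq (isCharacter_restrict M (isCharacter_of_isIrr hlift)) hθ hne (by
          show β (QuotientGroup.mk' M' (w : G)) = β (QuotientGroup.mk' M' ((1 : M) : G))
          rw [Subgroup.coe_one, map_one, QuotientGroup.mk'_apply,
            (QuotientGroup.eq_one_iff (w : G)).2 (Subgroup.mem_map_of_mem M.subtype hw)])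
      rw [hd] at h1
      exact_mod_cast h1
    subst hd1
    have hone : ¬ p ∣ 1 := fun e => hp.ne_one (Nat.dvd_one.1 e)
    exact ⟨h.quotient M' β c hβ hc,
      fun e => (part_unique hp hone hmd (hci.symm.trans (e.trans hm'))).symm,
      fun e => (part_unique hp hone hnd (hci.symm.trans (e.trans hn'))).symm⟩
  have hDM' : M' ≤ (derivedSeries M 1).map M.subtype := by rw [derivedSeries_one]
  by_cases hm1 : m' = 1
  · by_cases hn1 : n' = 1
    · -- monomial case
      haveI : IsMulCommutative M := ⟨⟨fun a b => by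
        have h0 : commutator M = ⊥ := commutator_eq_bot fun θ d hθ hd => by
          rcases hMdeg θ d hθ hd with e | e | e <;> omega
        have hmem : ⁅a, b⁆ ∈ commutator M :=
          Subgroup.commutator_mem_commutator (Subgroup.mem_top _) (Subgroup.mem_top _)
        rwa [h0, Subgroup.mem_bot, commutatorElement_eq_one_iff_mul_comm] at hmem⟩⟩
      rcases Nat.le_total m n with hle | hle
      · exact derived_three_of_monomial hle h fun χ hχ => monomial_of_abelian M hk hχ
      · exact derived_three_of_monomial hle h.swap fun χ hχ => monomial_of_abelian M hk hχ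
    · -- one `p`-power
      have h2 : derivedSeries M 2 = ⊥ := derived_two (m := n') fun θ d hθ hd => by
        rcases hMdeg θ d hθ hd with e | e | e <;> omega
      haveI := Fintype.ofFinite (G ⧸ M')
      have hq : derivedSeries G 2 ≤ M' := derived_le_of_quotient M' (derived_two (m := m)
        fun β c hβ hc => by
          obtain ⟨e1, -, e3⟩ := hquot β c hβ hc
          rcases e1 with e | e | e
          · exact Or.inl e
          · exact Or.inr e
          · exact absurd (e3 e) hn1)
      exact derived_eq_bot_of_le (a := 2) (b := 1) 1 (hq.trans hDM') h2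
  · by_cases hn1 : n' = 1
    · have h2 : derivedSeries M 2 = ⊥ := derived_two (m := m') fun θ d hθ hd => by
        rcases hMdeg θ d hθ hd with e | e | e <;> omega
      haveI := Fintype.ofFinite (G ⧸ M')
      have hq : derivedSeries G 2 ≤ M' := derived_le_of_quotient M' (derived_two (m := n)
        fun β c hβ hc => by
          obtain ⟨e1, e2, -⟩ := hquot β c hβ hc
          rcases e1 with e | e | e
          · exact Or.inl e
          · exact absurd (e2 e) hm1
          · exact Or.inr e)
      exact derived_eq_bot_of_le (a := 2) (b := 1) 1 (hq.trans hDM') h2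
    · -- no `p`-power
      haveI := Fintype.ofFinite (G ⧸ M')
      have h0 : derivedSeries (G ⧸ M') 1 = ⊥ := by
        rw [derivedSeries_one]
        refine commutator_eq_bot fun β c hβ hc => ?_
        obtain ⟨e1, e2, e3⟩ := hquot β c hβ hc
        rcases e1 with e | e | e
        · exact e
        · exact absurd (e2 e) hm1
        · exact absurd (e3 e) hn1
      exact derived_eq_bot_of_le (a := 1) (b := 1) 2 ((derived_le_of_quotient M' h0).trans hDM')
        (ih M hMlt m' n' hMdeg)

/-- Two coprime degrees. -/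
theorem coprime_case (h : DegIn G m n) (hm : 1 < m) (hmn : m < n) (hcop : m.Coprime n)
    (hmex : ∃ χ, Cfsg.IsIrrCharacter G χ ∧ χ 1 = (m : ℂ))
    (hnex : ∃ χ, Cfsg.IsIrrCharacter G χ ∧ χ 1 = (n : ℂ)) : derivedSeries G 3 = ⊥ := by
  classical
  have hab : commutator G ≠ ⊥ := fun e => by
    obtain ⟨χ, hχ, hχm⟩ := hmex
    haveI : IsMulCommutative G := ⟨⟨fun a c => by
      have hmem : ⁅a, c⁆ ∈ commutator G :=
        Subgroup.commutator_mem_commutator (Subgroup.mem_top _) (Subgroup.mem_top _)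
      rwa [e, Subgroup.mem_bot, commutatorElement_eq_one_iff_mul_comm] at hmem⟩⟩
    have h1 := GaloisAverage.irr_one_eq_one hχ
    rw [hχm, Nat.cast_eq_one] at h1
    omega
  -- the partner of a degree
  have hpartner : ∀ f, (f = m ∨ f = n) →
      ∃ e, DegIn G f e ∧ f.Coprime e ∧ 1 < e ∧ ∃ χ, Cfsg.IsIrrCharacter G χ ∧ χ 1 = (e : ℂ) := by
    rintro f (rfl | rfl)
    · exact ⟨n, h, hcop, hm.trans hmn, hnex⟩
    · exact ⟨m, h.swap, hcop.symm, hm, hmex⟩
  -- a normal subgroup maximal with non-abelian quotient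
  obtain ⟨N, -, hN⟩ := Finite.exists_le_maximal
    (p := fun N : Subgroup G => N.Normal ∧ ¬ commutator G ≤ N) (a := ⊥)
    ⟨inferInstance, fun e => hab (le_bot_iff.1 e)⟩
  haveI := hN.prop.1
  haveI := Fintype.ofFinite (G ⧸ N)
  have hmap : commutator (G ⧸ N) = (commutator G).map (QuotientGroup.mk' N) := by
    rw [commutator_def, commutator_def, Subgroup.map_commutator,
      Subgroup.map_top_of_surjective _ (QuotientGroup.mk'_surjective N)]
  have hne : commutator (G ⧸ N) ≠ ⊥ := fun e => hN.prop.2 (by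
    rwa [hmap, Subgroup.map_eq_bot_iff, QuotientGroup.ker_mk'] at e)
  have hmin : ∀ M : Subgroup (G ⧸ N), M.Normal → M ≠ ⊥ → commutator (G ⧸ N) ≤ M := by
    intro M hM hMne
    rw [hmap, Subgroup.map_le_iff_le_comap]
    by_contra hle
    have hNM : N ≤ M.comap (QuotientGroup.mk' N) := fun x hx => by
      rw [Subgroup.mem_comap, QuotientGroup.mk'_apply, (QuotientGroup.eq_one_iff x).2 hx]
      exact one_mem M
    have heq := le_antisymm (hN.2 ⟨hM.comap _, hle⟩ hNM) hNM
    refine hMne ((Subgroup.eq_bot_iff_forall M).2 fun q hq => ?_)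
    obtain ⟨x, rfl⟩ := QuotientGroup.mk'_surjective N q
    exact (QuotientGroup.eq_one_iff x).2 (heq ▸ hq : x ∈ N)
  have hW : IsMulCommutative (commutator (G ⧸ N)) := by
    haveI := Fintype.ofFinite (commutator (G ⧸ N))
    have h1 := no_nonabelian_minimal (commutator (G ⧸ N)) (h.quotient N) hm hmn hcop hne
      fun M hM hle => (em (M = ⊥)).imp_right fun h0 => le_antisymm hle (hmin M hM h0)
    exact ⟨⟨fun a c => Subtype.ext (commutatorElement_eq_one_iff_mul_comm.1
      ((Subgroup.eq_bot_iff_forall _).1 h1 _ (Subgroup.commutator_mem_commutator a.2 c.2)))⟩⟩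
  by_cases hc : commutator (G ⧸ N) ≤ Subgroup.center (G ⧸ N)
  · -- central derived subgroup
    exfalso
    obtain ⟨ψ, f, hψirr, hf, hf1, hvan, hzabs, hidx⟩ := IsaacsPassman.central_data N hne hmin hc
    have hlift := isIrr_comp (QuotientGroup.mk' N) (QuotientGroup.mk'_surjective N) hψirr
    obtain ⟨e, hG, hfe, he1, χ, hχ, hχe⟩ := hpartner f (by
      rcases h _ f hlift (by simpa using hf) with e1 | e1 | e1
      · omega
      · exact Or.inl e1
      · exact Or.inr e1)
    set Z := Subgroup.center (G ⧸ N)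
    set H : Subgroup G := Z.comap (QuotientGroup.mk' N)
    haveI := Fintype.ofFinite H
    haveI : H.Normal := inferInstanceAs (Z.comap (QuotientGroup.mk' N)).Normal
    have hH : H.index = f ^ 2 := by
      rw [← hidx, Subgroup.index_comap_of_surjective _ (QuotientGroup.mk'_surjective N)]
    have hres := DegreeGraph.restrict_irr_of_coprime H hχ hχe (hH ▸ hfe.symm.pow_right 2)
    have hP : Cfsg.IsIrrCharacter G (fun g => χ g * ψ (QuotientGroup.mk' N g)) := by
      refine isIrr_of_classInner_self (isCharacter_mul (isCharacter_of_isIrr hχ)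
        (isCharacter_of_isIrr hlift)) ?_
      rw [Cfsg.classInner, inv_mul_eq_one₀ natCard_ne_zero, ← H.index_mul_card, hH, Nat.cast_mul,
        Nat.cast_pow]
      have h1 := classInner_isIrr_self hres
      rw [Cfsg.classInner, inv_mul_eq_one₀ (subgroup_card_ne_zero H)] at h1
      rw [h1, ← Finset.sum_subtype (Finset.univ.filter fun g : G => QuotientGroup.mk' N g ∈ Z)
        (p := (· ∈ H)) (fun g => by
          simp only [Finset.mem_filter, Finset.mem_univ, true_and]; exact Iff.rfl)
        (fun g => χ g * conj (χ g)),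
        Finset.mul_sum, Finset.sum_filter]
      refine Finset.sum_congr rfl fun g _ => ?_
      by_cases hg : QuotientGroup.mk' N g ∈ Z
      · rw [if_pos hg, map_mul, ← hzabs _ hg]; ring
      · rw [if_neg hg, hvan _ hg]; simp
    rcases hG _ (e * f) hP (by simp [hχe, hf]) with e2 | e2 | e2
    · exact absurd (Nat.eq_one_of_mul_eq_one_right e2) (by omega)
    · exact absurd ((Nat.mul_eq_right (by omega : f ≠ 0)).1 e2) (by omega)
    · exact absurd ((Nat.mul_eq_left (by omega : e ≠ 0)).1 e2) (by omega)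
  -- a Frobenius quotient
  obtain ⟨K, L, hK, r, D⟩ := IsaacsPassman.exists_frobData N hne hmin hW hc
  haveI := hK
  haveI := Fact.mk D.prime
  haveI := Fintype.ofFinite K
  set N' := N.subgroupOf K with hN'
  haveI : N'.Normal := Subgroup.normal_subgroupOf
  haveI := Fintype.ofFinite N'
  haveI : IsMulCommutative (K ⧸ N') := ⟨⟨fun x y => by
    induction x using QuotientGroup.induction_on with | _ x =>
    induction y using QuotientGroup.induction_on with | _ y =>
    rw [← QuotientGroup.mk_mul, ← QuotientGroup.mk_mul, QuotientGroup.eq, Subgroup.mem_subgroupOf]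
    have hc' : ⁅(y : G)⁻¹, (x : G)⁻¹⁆ ∈ N :=
      D.commK (Subgroup.commutator_mem_commutator (inv_mem y.2) (inv_mem x.2))
    rw [commutatorElement_def] at hc'
    simpa [mul_assoc] using hc'⟩⟩
  set f := K.index with hfdef
  have hf1 : 1 < f := by
    have h0 : f ≠ 0 := Subgroup.index_ne_zero_of_finite
    have h1 : f ≠ 1 := fun e => D.ne_top (Subgroup.index_eq_one.1 e)
    omega
  -- regular twists induce irreducibly
  have hreg : ∀ θ : K → ℂ, Cfsg.IsIrrCharacter K θ → ∀ d : ℕ, θ 1 = d →
      IsaacsPassman.fixTw N' θ = ⊥ → ∃ χ, Cfsg.IsIrrCharacter G χ ∧ χ 1 = ((f * d : ℕ) : ℂ) := by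
    intro θ hθ d hd hbot
    obtain ⟨lam, hlam⟩ := IsaacsPassman.exists_regular_tw N K D.lt D.free hθ hbot
    refine ⟨_, DegreeGraph.isIrr_indFun_of_stabilizer K (IsaacsPassman.isIrr_tw hθ lam.1) hlam, ?_⟩
    rw [OddOrderChar.indFun_one, show IsaacsPassman.tw θ lam.1 1 = θ 1 by simp [IsaacsPassman.tw],
      hd, Nat.cast_mul]
  obtain ⟨e, hG, hfe, he1, -⟩ := hpartner f (by
    obtain ⟨χ, hχ, hχf⟩ := hreg (fun _ => 1) isIrr_one 1 (by simp)
      ((Subgroup.eq_bot_iff_forall _).2 fun lam hlam => Subtype.ext (MonoidHom.ext fun x =>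
        Units.ext (by
          have := congrFun ((IsaacsPassman.mem_fixTw N').1 hlam) x
          simpa [IsaacsPassman.tw] using this)))
    rcases h χ (f * 1) hχ hχf with e1 | e1 | e1 <;> omega)
  have hKdeg : ∀ (θ : K → ℂ) (d : ℕ), Cfsg.IsIrrCharacter K θ → θ 1 = d → d = 1 ∨ d = e := by
    intro θ d hθ hd
    by_cases hd1 : d = 1
    · exact Or.inl hd1
    right
    have hrd : r ∣ d := by
      by_cases hbot : IsaacsPassman.fixTw N' θ = ⊥
      · exfalso
        obtain ⟨χ, hχ, hχd⟩ := hreg θ hθ d hd hbot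
        rcases hG χ (f * d) hχ hχd with e1 | e1 | e1
        · exact hd1 (Nat.eq_one_of_mul_eq_one_left e1)
        · exact hd1 ((Nat.mul_eq_left (by omega : f ≠ 0)).1 e1)
        · exact absurd (Nat.eq_one_of_dvd_coprimes hfe dvd_rfl ⟨d, e1.symm⟩) (by omega)
      · by_contra hrd
        obtain ⟨j, hj⟩ := D.pPow
        have hcopd : d.Coprime N'.index := by
          rw [show N'.index = r ^ j from hj]
          exact (D.prime.coprime_iff_not_dvd.2 hrd).symm.pow_right j
        have h1 := classInner_isIrr_self (DegreeGraph.restrict_irr_of_coprime N' hθ hd hcopd)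
        rw [IsaacsPassman.classInner_restrict_self N' hθ, Nat.cast_eq_one] at h1
        exact hbot (Subgroup.eq_bot_of_card_eq _ h1)
    obtain ⟨χ, hχ, hne'⟩ := CharactersDeep.Clifford.exists_over K hθ
    obtain ⟨c, -, hc'⟩ := exists_degree_pos hχ
    obtain ⟨d', k, hd', hck, hk, -⟩ := DegreeGraph.exists_ratio K hχ hθ hne' hc'
    obtain rfl : d = d' := Nat.cast_injective (R := ℂ) (hd.symm.trans hd')
    rcases hG χ c hχ hc' with e1 | e1 | e1
    · exact absurd (Nat.eq_one_of_mul_eq_one_right (hck.symm.trans e1)) hd1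
    · exact absurd (hrd.trans ⟨k, e1.symm.trans hck⟩) D.not_dvd
    · have hk1 : k = 1 := Nat.eq_one_of_dvd_coprimes hfe hk ⟨d, by rw [← e1, hck, mul_comm]⟩
      rw [← e1, hck, hk1, mul_one]
  refine derived_eq_bot_of_le (a := 1) (b := 0) 2 (K := K) ?_ (derived_two hKdeg)
  rw [derivedSeries_zero, ← MonoidHom.range_eq_map, Subgroup.range_subtype, derivedSeries_one]
  exact D.commG

/-- All degrees among `1` and two further numbers: the derived length is at most three. -/
theorem main : ∀ (c : ℕ) (G : Type u) [Group G] [Fintype G], Nat.card G = c →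
    ∀ m n : ℕ, DegIn G m n → derivedSeries G 3 = ⊥ := by
  intro c
  induction c using Nat.strong_induction_on with
  | _ c ihc =>
  intro G _ _ hc m n h
  classical
  have ih : ∀ (H : Type u) [Group H] [Fintype H], Nat.card H < Nat.card G →
      ∀ a b : ℕ, DegIn H a b → derivedSeries H 3 = ⊥ := fun H _ _ hlt =>
    ihc _ (hc ▸ hlt) H rfl
  by_cases hab : commutator G = ⊥
  · refine le_bot_iff.1 ((derivedSeries_antitone G (by omega : 1 ≤ 3)).trans ?_)
    rw [derivedSeries_one, hab]
  -- two occurring degrees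
  obtain ⟨a, b, ha1, hb1, hab', haex, hbex⟩ : ∃ a b : ℕ, 1 < a ∧ 1 < b ∧ DegIn G a b ∧
      (∃ χ, Cfsg.IsIrrCharacter G χ ∧ χ 1 = (a : ℂ)) ∧
      (∃ χ, Cfsg.IsIrrCharacter G χ ∧ χ 1 = (b : ℂ)) := by
    obtain ⟨χ, hχ⟩ := SameDegree.exists_nonlinear hab
    obtain ⟨a, ha0, ha⟩ := exists_degree_pos χ.2
    have ha1 : a ≠ 1 := fun e => hχ (by rw [ha, e, Nat.cast_one])
    by_cases hex : ∃ (ψ : G → ℂ) (b : ℕ), Cfsg.IsIrrCharacter G ψ ∧ ψ 1 = (b : ℂ) ∧ b ≠ 1 ∧ b ≠ a
    · obtain ⟨ψ, b, hψ, hb, hb1, hba⟩ := hex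
      have hb0 : b ≠ 0 := fun e => irr_one_ne_zero hψ (by simpa [e] using hb)
      refine ⟨a, b, by omega, by omega, fun η d hη hd => ?_, ⟨_, χ.2, ha⟩, ψ, hψ, hb⟩
      have h1 := h _ a χ.2 ha
      have h2 := h ψ b hψ hb
      have h3 := h η d hη hd
      omega
    · refine ⟨a, a, by omega, by omega, fun η d hη hd => ?_, ⟨_, χ.2, ha⟩, _, χ.2, ha⟩
      push Not at hex
      rcases eq_or_ne d 1 with e | e
      · exact Or.inl e
      · exact Or.inr (Or.inl (hex η d hη hd e))
  by_cases hcop : a.Coprime b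
  · have hne : a ≠ b := fun e => by
      rw [e, Nat.coprime_self] at hcop
      omega
    rcases lt_or_gt_of_ne hne with hlt | hlt
    · exact coprime_case hab' ha1 hlt hcop haex hbex
    · exact coprime_case hab'.swap hb1 hlt hcop.symm hbex haex
  · obtain ⟨p, hp, hpa, hpb⟩ := Nat.Prime.not_coprime_iff_dvd.1 hcop
    refine prime_case ih hp (by omega) (by omega) hab' (fun χ d hχ hd hd1 => ?_) hab
    rcases hab' χ d hχ hd with e | e | e
    · exact absurd e hd1
    · exact e ▸ hpa
    · exact e ▸ hpb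

end CfsgLib.ThreeDegrees
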