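import Cfsg.Agent.ThreeDegrees.Bad
import Cfsg.Agent.CharactersDeep.RelativeMGroup
import Cfsg.Agent.Characters.Monomial
import Cfsg.Agent.Solvable.Nilpotent

/-!
# Tools for groups with three character degrees
-/

set_option autoImplicit false
set_option linter.unusedSectionVars false
set_option linter.style.haveILetI false

namespace CfsgLib.ThreeDegrees

open CfsgLib.Characters CfsgLib.OddOrderChar CfsgLib.CharactersDeep
open scoped commutatorElement

universe u

variable {G : Type u} [Group G] [Fintype G]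

theorem DegIn.swap {m n : ℕ} (h : DegIn G m n) : DegIn G n m := fun χ d hχ hd =>
  (h χ d hχ hd).imp_right Or.symm

theorem DegIn.quotient {m n : ℕ} (h : DegIn G m n) (N : Subgroup G) [N.Normal] :
    DegIn (G ⧸ N) m n := fun β d hβ hd => by
  haveI := Fintype.ofFinite (G ⧸ N)
  exact h (fun g => β (QuotientGroup.mk' N g)) d
    (isIrr_comp (QuotientGroup.mk' N) (QuotientGroup.mk'_surjective N) hβ) (by simpa using hd)

/-- A group with only linear characters is abelian. -/
theorem commutator_eq_bot (h : ∀ (χ : G → ℂ) (d : ℕ), Cfsg.IsIrrCharacter G χ → χ 1 = d → d = 1) :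
    commutator G = ⊥ := by
  by_contra hne
  obtain ⟨χ, hχ⟩ := SameDegree.exists_nonlinear hne
  obtain ⟨d, -, hd⟩ := exists_degree_pos χ.2
  exact hχ (by rw [hd, h _ d χ.2 hd, Nat.cast_one])

theorem derived_two_of_comm (h : ∀ a ∈ commutator G, ∀ b ∈ commutator G, a * b = b * a) :
    derivedSeries G 2 = ⊥ := by
  rw [derivedSeries_succ, derivedSeries_one]
  exact le_bot_iff.1 (Subgroup.commutator_le.2 fun a ha b hb =>
    Subgroup.mem_bot.2 (commutatorElement_eq_one_iff_mul_comm.2 (h a ha b hb)))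

/-- Groups with two degrees are metabelian. -/
theorem derived_two {m : ℕ}
    (h : ∀ (χ : G → ℂ) (d : ℕ), Cfsg.IsIrrCharacter G χ → χ 1 = d → d = 1 ∨ d = m) :
    derivedSeries G 2 = ⊥ := by
  refine derived_two_of_comm ?_
  by_cases hex : ∃ χ, Cfsg.IsIrrCharacter G χ ∧ χ 1 = (m : ℂ) ∧ m ≠ 1
  · obtain ⟨χ, hχ, hχm, hm1⟩ := hex
    refine TwoDegrees73.commutator_abelian (fun ψ hψ => ?_) ⟨χ, hχ, hχm⟩ hm1
    obtain ⟨d, -, hd⟩ := exists_degree_pos hψ
    rcases h ψ d hψ hd with rfl | rfl
    · exact Or.inl (by rw [hd, Nat.cast_one])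
    · exact Or.inr hd
  · have h0 : commutator G = ⊥ := commutator_eq_bot fun χ d hχ hd => by
      rcases h χ d hχ hd with e | e
      · exact e
      · by_contra hd1
        exact hex ⟨χ, hχ, by rw [hd, e], e ▸ hd1⟩
    intro a ha
    rw [h0, Subgroup.mem_bot] at ha
    simp [ha]

/-- The derived series of a group goes down at least as fast as that of a subgroup it has entered. -/
theorem derived_le_map {K : Subgroup G} {a b : ℕ}
    (h : derivedSeries G a ≤ (derivedSeries K b).map K.subtype) (i : ℕ) :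
    derivedSeries G (a + i) ≤ (derivedSeries K (b + i)).map K.subtype := by
  induction i with
  | zero => exact h
  | succ i ih =>
    rw [← add_assoc, ← add_assoc, derivedSeries_succ, derivedSeries_succ, Subgroup.map_commutator]
    exact Subgroup.commutator_mono ih ih

theorem derived_eq_bot_of_le {K : Subgroup G} {a b : ℕ} (i : ℕ)
    (h : derivedSeries G a ≤ (derivedSeries K b).map K.subtype)
    (hK : derivedSeries K (b + i) = ⊥) : derivedSeries G (a + i) = ⊥ :=
  le_bot_iff.1 ((derived_le_map h i).trans (by rw [hK, Subgroup.map_bot]))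

/-- The derived series passes to a quotient. -/
theorem derived_le_of_quotient (N : Subgroup G) [N.Normal] {i : ℕ}
    (h : derivedSeries (G ⧸ N) i = ⊥) : derivedSeries G i ≤ N := fun x hx => by
  have h1 := map_derivedSeries_le_derivedSeries (QuotientGroup.mk' N) i (Subgroup.mem_map_of_mem _ hx)
  rw [h, Subgroup.mem_bot] at h1
  exact (QuotientGroup.eq_one_iff x).1 h1

/-- A character constant on the derived subgroup is linear. -/
theorem eq_one_of_const_commutator {θ : G → ℂ} (hθ : Cfsg.IsIrrCharacter G θ)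
    (hc : ∀ w ∈ commutator G, θ w = θ 1) : θ 1 = 1 := by
  obtain ⟨χ, hχ, hχe⟩ := exists_irr_quotient (commutator G) hθ hc
  haveI : IsMulCommutative (G ⧸ commutator G) := ⟨⟨fun a c => by
    induction a using QuotientGroup.induction_on with | _ a =>
    induction c using QuotientGroup.induction_on with | _ c =>
    rw [← QuotientGroup.mk_mul, ← QuotientGroup.mk_mul, QuotientGroup.eq]
    have hmem : ⁅c⁻¹, a⁻¹⁆ ∈ commutator G :=
      Subgroup.commutator_mem_commutator (Subgroup.mem_top _) (Subgroup.mem_top _)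
    rw [commutatorElement_def] at hmem
    simpa [mul_assoc] using hmem⟩⟩
  haveI := Fintype.ofFinite (G ⧸ commutator G)
  rw [hχe]
  simpa using GaloisAverage.irr_one_eq_one hχ

/-- A subgroup which is normal, of `p`-power index, with abelian group structure gives an
`M`-group. -/
theorem monomial_of_abelian {p k : ℕ} [hp : Fact p.Prime] (M : Subgroup G) [M.Normal]
    [IsMulCommutative M] (hk : M.index = p ^ k) {χ : G → ℂ} (hχ : Cfsg.IsIrrCharacter G χ) :
    ∃ (H : Subgroup G) (lam : H →* ℂˣ), χ = Cfsg.indFun H (fun h => (lam h : ℂ)) := by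
  classical
  have hQ : IsPGroup p (G ⧸ M) := IsPGroup.of_card (n := k) (by rw [← Subgroup.index_eq_card, hk])
  haveI := hQ.isNilpotent
  haveI := Fintype.ofFinite M
  have hchief : ∀ (H K L : Subgroup G), M ≤ L → L < K → K ≤ H →
      (∀ h ∈ H, ∀ k ∈ K, h * k * h⁻¹ ∈ K) → (∀ h ∈ H, ∀ l ∈ L, h * l * h⁻¹ ∈ L) →
      (∀ M' : Subgroup G, L ≤ M' → M' ≤ K → (∀ h ∈ H, ∀ m ∈ M', h * m * h⁻¹ ∈ M') →
        M' = L ∨ M' = K) →
      ¬ IsSquare (L.relIndex K) := by
    intro H K L hML hLK hKH hKn hLn hmax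
    set L' := L.subgroupOf H
    set K' := K.subgroupOf H
    haveI : L'.Normal := ⟨fun x hx g => hLn g g.2 x hx⟩
    haveI : K'.Normal := ⟨fun x hx g => hKn g g.2 x hx⟩
    haveI := Fintype.ofFinite (H ⧸ L')
    have hH : IsPGroup p (H ⧸ L') := by
      intro q
      obtain ⟨g, rfl⟩ := QuotientGroup.mk'_surjective L' q
      obtain ⟨j, hj⟩ := hQ (QuotientGroup.mk' M (g : G))
      refine ⟨j, ?_⟩
      rw [← map_pow, QuotientGroup.mk'_apply, QuotientGroup.eq_one_iff, Subgroup.mem_subgroupOf,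
        SubmonoidClass.coe_pow]
      rw [← map_pow, QuotientGroup.mk'_apply, QuotientGroup.eq_one_iff] at hj
      exact hML hj
    haveI := hH.isNilpotent
    set π := QuotientGroup.mk' L' with hπ
    have hne : K'.map π ≠ ⊥ := by
      rw [Ne, Subgroup.map_eq_bot_iff, QuotientGroup.ker_mk']
      exact fun hle => hLK.not_ge fun x hx => hle (Subgroup.mem_subgroupOf.2 hx : (⟨x, hKH hx⟩ : H) ∈ K')
    haveI : (K'.map π).Normal := Subgroup.Normal.map inferInstance π (QuotientGroup.mk'_surjective L')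
    set Z := K'.map π ⊓ Subgroup.center (H ⧸ L') with hZ
    have hZne : Z ≠ ⊥ := Solvable.inf_center_ne_bot hne
    have hZp : p ∣ Nat.card Z := by
      obtain ⟨j, hj⟩ := IsPGroup.iff_card.1 (hH.to_subgroup Z)
      rcases j with _ | j
      · exact absurd (Subgroup.eq_bot_of_card_eq Z (by rw [hj, pow_zero])) hZne
      · rw [hj]; exact dvd_pow_self p (Nat.succ_ne_zero j)
    obtain ⟨z, hz⟩ := exists_prime_orderOf_dvd_card' p hZp
    set C := Subgroup.zpowers (z : H ⧸ L') with hC
    have hCZ : C ≤ Z := by rw [hC, Subgroup.zpowers_le]; exact z.2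
    haveI : C.Normal := ⟨fun x hx g => by
      rw [Subgroup.mem_center_iff.1 (hCZ hx).2 g, mul_inv_cancel_right]
      exact hx⟩
    set M' := (C.comap π).map H.subtype with hM'
    have hback : M'.subgroupOf H = C.comap π :=
      Subgroup.comap_map_eq_self_of_injective H.subtype_injective _
    have hsurj := QuotientGroup.mk'_surjective L'
    rcases hmax M' (fun x hx => ⟨⟨x, hKH (hLK.le hx)⟩, by
          show π _ ∈ C
          rw [hπ, QuotientGroup.mk'_apply,
            (QuotientGroup.eq_one_iff _).2 (Subgroup.mem_subgroupOf.2 hx)]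
          exact one_mem C, rfl⟩)
        (by
          rintro _ ⟨y, hy, rfl⟩
          obtain ⟨y', hy', hyy⟩ := (hCZ hy).1
          have h1 : (y'⁻¹ * y : H) ∈ L' := QuotientGroup.eq.1 hyy
          simpa using mul_mem (show (y' : G) ∈ K from hy') (hLK.le (show ((y'⁻¹ * y : H) : G) ∈ L from h1)))
        (by
          rintro h hh _ ⟨y, hy, rfl⟩
          exact ⟨⟨h, hh⟩ * y * ⟨h, hh⟩⁻¹,
            (inferInstance : (C.comap π).Normal).conj_mem y hy _, rfl⟩) with e | e
    · exfalso
      obtain ⟨y, hy⟩ := hsurj (z : H ⧸ L')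
      have hyM : y ∈ M'.subgroupOf H := by
        rw [hback, Subgroup.mem_comap, hy]
        exact Subgroup.mem_zpowers _
      rw [e] at hyM
      have hz1 : (z : H ⧸ L') = 1 := by rw [← hy]; exact (QuotientGroup.eq_one_iff y).2 hyM
      rw [show z = 1 from Subtype.ext hz1, orderOf_one] at hz
      exact hp.out.ne_one hz.symm
    · have hCK : C.comap π = K' := by rw [← hback, e]
      have hcard : Nat.card C = p := by rw [hC, Nat.card_zpowers, Subgroup.orderOf_coe, hz]
      have h1 : L'.relIndex K' = p := by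
        have hker : (⊥ : Subgroup (H ⧸ L')).comap π = L' := by
          rw [MonoidHom.comap_bot, QuotientGroup.ker_mk']
        calc L'.relIndex K' = ((⊥ : Subgroup (H ⧸ L')).comap π).relIndex (C.comap π) := by
              rw [hker, hCK]
          _ = p := by
              rw [Subgroup.relIndex_comap, Subgroup.map_comap_eq_self_of_surjective hsurj,
                Subgroup.relIndex_bot_left, hcard]
      rw [← Subgroup.relIndex_subgroupOf hKH, h1]
      exact hp.out.prime.irreducible.not_isSquare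
  obtain ⟨H, hMH, ψ, hψ, hind, hres⟩ := RelativeMGroup.relative M inferInstance hchief hχ
  haveI := Fintype.ofFinite H
  have h1 : ψ 1 = 1 := by
    have h2 := GaloisAverage.irr_one_eq_one hres
    exact (congrArg ψ (Subtype.ext rfl)).trans h2
  obtain ⟨lam, rfl⟩ := exists_hom_of_degree_one (isCharacter_of_isIrr hψ) h1
  exact ⟨H, lam, hind.symm⟩

/-- One step of Taketa's argument. -/
theorem taketa_step (K : Subgroup G) [hKn : K.Normal] {H : Subgroup G} (lam : H →* ℂˣ) {d : ℕ}
    (hχ : Cfsg.IsIrrCharacter G (Cfsg.indFun H (fun h => (lam h : ℂ))))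
    (hd : Cfsg.indFun H (fun h => (lam h : ℂ)) 1 = d)
    (hsmall : ∀ (ψ : G → ℂ) (e : ℕ), Cfsg.IsIrrCharacter G ψ → ψ 1 = e → e < d →
      ∀ k ∈ K, ψ k = ψ 1) :
    ∀ k ∈ ⁅K, K⁆, Cfsg.indFun H (fun h => (lam h : ℂ)) k = Cfsg.indFun H (fun h => (lam h : ℂ)) 1 := by
  classical
  haveI : Fintype H := Fintype.ofFinite H
  set π : G → ℂ := Cfsg.indFun H (fun _ => 1) with hπdef
  have hπ : Cfsg.IsCharacter G π :=
    CfsgLib.Characters.isCharacter_indFun H CfsgLib.Characters.isCharacter_one
  have hindex : (H.index : ℂ) = d := by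
    rw [← hd, CfsgLib.Characters.indFun_one]; simp
  have hπ1 : π 1 = d := by rw [hπdef, CfsgLib.Characters.indFun_one, mul_one, hindex]
  have hone : Cfsg.classInner π (fun _ => 1) = 1 := by
    rw [hπdef, CfsgLib.Characters.classInner_indFun H _
      (CfsgLib.Characters.isClassFunction_of_isIrr CfsgLib.Characters.isIrr_one)]
    exact CfsgLib.Characters.classInner_isIrr_self (G := H) CfsgLib.Characters.isIrr_one
  obtain ⟨m, hm⟩ := CfsgLib.Characters.exists_nat_coeff hπ
  choose e he0 he using fun ψ : Cfsg.IrrCharacter G => CfsgLib.Characters.exists_degree_pos ψ.2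
  let t : Cfsg.IrrCharacter G := ⟨fun _ => 1, CfsgLib.Characters.isIrr_one⟩
  have hmt : m t = 1 := by
    have h2 : Cfsg.classInner π (t : G → ℂ) = (m t : ℂ) := by
      rw [hm, CfsgLib.Characters.classInner_irr_coeff]
    exact_mod_cast h2.symm.trans hone
  have hsum : ∑ ψ, m ψ * e ψ = d := by
    have h2 := congrFun hm 1
    rw [hπ1] at h2
    simp only [Finset.sum_apply, Pi.smul_apply, smul_eq_mul, he] at h2
    exact_mod_cast h2.symm
  have het : e t = 1 := by
    have h2 : ((e t : ℕ) : ℂ) = 1 := (he t).symm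
    exact_mod_cast h2
  have hsmall' : ∀ ψ, ψ ≠ t → m ψ ≠ 0 → e ψ < d := by
    intro ψ hψ hm0
    have hle := Finset.sum_le_sum_of_subset_of_nonneg (f := fun ψ => m ψ * e ψ)
      (Finset.subset_univ ({t, ψ} : Finset (Cfsg.IrrCharacter G))) fun _ _ _ => Nat.zero_le _
    rw [Finset.sum_pair hψ.symm, hsum, hmt, het] at hle
    have : e ψ ≤ m ψ * e ψ := Nat.le_mul_of_pos_left _ (Nat.pos_of_ne_zero hm0)
    omega
  have hπk : ∀ k ∈ K, π k = π 1 := by
    intro k hk
    rw [hm]
    simp only [Finset.sum_apply, Pi.smul_apply, smul_eq_mul]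
    refine Finset.sum_congr rfl fun ψ _ => ?_
    by_cases hψ : ψ = t
    · rw [hψ]
    by_cases hm0 : m ψ = 0
    · simp [hm0]
    · rw [hsmall _ (e ψ) ψ.2 (he ψ) (hsmall' ψ hψ hm0) k hk]
  have hmem : ∀ k ∈ K, ∀ x : G, x⁻¹ * k * x ∈ H := by
    intro k hk x
    by_contra hx
    have h1 : ∀ y : G, Cfsg.extendByZero H (fun _ => (1 : ℂ)) y = if y ∈ H then 1 else 0 := by
      intro y
      split_ifs with hy
      · exact CfsgLib.Characters.extendByZero_of_mem H _ hy
      · exact CfsgLib.Characters.extendByZero_of_not_mem H _ hy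
    have h2 := hπk k hk
    simp only [hπdef, Cfsg.indFun, h1, Finset.sum_boole, mul_one, inv_mul_cancel, H.one_mem] at h2
    have h3 : (Finset.univ.filter fun x : G => x⁻¹ * k * x ∈ H).card = Fintype.card G := by
      have := mul_left_cancel₀ (inv_ne_zero (CfsgLib.Characters.subgroup_card_ne_zero H)) h2
      simpa using this
    have h4 := (Finset.card_eq_iff_eq_univ _).1 h3
    have h5 : x ∈ Finset.univ.filter fun x : G => x⁻¹ * k * x ∈ H := by
      rw [h4]; exact Finset.mem_univ x
    exact hx (Finset.mem_filter.1 h5).2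
  have hKH : K ≤ H := fun k hk => by simpa using hmem k hk 1
  have hker : ⁅K, K⁆ ≤ lam.ker.map H.subtype := by
    rw [Subgroup.commutator_le]
    intro p hp q hq
    refine ⟨⁅(⟨p, hKH hp⟩ : H), (⟨q, hKH hq⟩ : H)⁆, MonoidHom.mem_ker.2 ?_, rfl⟩
    rw [map_commutatorElement]
    exact commutatorElement_eq_one_iff_mul_comm.2 (mul_comm _ _)
  have hval : ∀ x : G, ∀ k ∈ ⁅K, K⁆,
      Cfsg.extendByZero H (fun h => (lam h : ℂ)) (x⁻¹ * k * x) = 1 := by
    intro x k hk
    have hk' : x⁻¹ * k * x ∈ ⁅K, K⁆ := by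
      simpa using (Subgroup.commutator_normal K K).conj_mem k hk x⁻¹
    obtain ⟨b, hb, hbx⟩ := hker hk'
    rw [← hbx]
    show Cfsg.extendByZero H _ (b : G) = 1
    rw [CfsgLib.Characters.extendByZero_of_mem H _ b.2]
    exact congrArg Units.val (MonoidHom.mem_ker.1 hb)
  intro k hk
  simp only [Cfsg.indFun]
  exact congrArg _ (Finset.sum_congr rfl fun x _ => by
    rw [hval x k hk, hval x 1 (one_mem _)])

/-- An `M`-group with three degrees has derived length at most three. -/
theorem derived_three_of_monomial {m n : ℕ} (hmn : m ≤ n) (h : DegIn G m n)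
    (hM : ∀ χ : G → ℂ, Cfsg.IsIrrCharacter G χ →
      ∃ (H : Subgroup G) (lam : H →* ℂˣ), χ = Cfsg.indFun H (fun h => (lam h : ℂ))) :
    derivedSeries G 3 = ⊥ := by
  have h1 : ∀ χ, Cfsg.IsIrrCharacter G χ → χ 1 = 1 → ∀ k ∈ derivedSeries G 1, χ k = χ 1 :=
    fun χ hχ hd k hk => SameDegree.linear_commutator hχ hd (derivedSeries_one G ▸ hk)
  have hstep : ∀ i χ (d : ℕ), Cfsg.IsIrrCharacter G χ → χ 1 = d →
      (∀ (ψ : G → ℂ) (e : ℕ), Cfsg.IsIrrCharacter G ψ → ψ 1 = e → e < d →
        ∀ k ∈ derivedSeries G i, ψ k = ψ 1) →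
      ∀ k ∈ derivedSeries G (i + 1), χ k = χ 1 := by
    intro i χ d hχ hd hsmall k hk
    obtain ⟨H, lam, rfl⟩ := hM χ hχ
    rw [derivedSeries_succ] at hk
    haveI := derivedSeries_normal G i
    exact taketa_step (derivedSeries G i) lam hχ hd hsmall k hk
  have h2 : ∀ χ (d : ℕ), Cfsg.IsIrrCharacter G χ → χ 1 = d → d = 1 ∨ d = m →
      ∀ k ∈ derivedSeries G 2, χ k = χ 1 := by
    intro χ d hχ hd hdm k hk
    by_cases hd1 : d = 1
    · exact h1 χ hχ (by rw [hd, hd1, Nat.cast_one]) k (derivedSeries_antitone G (by omega : 1 ≤ 2) hk)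
    refine hstep 1 χ d hχ hd (fun ψ e hψ he hed => h1 ψ hψ ?_) k hk
    have hdm' := hdm.resolve_left hd1
    rcases h ψ e hψ he with e1 | e1 | e1
    · rw [he, e1, Nat.cast_one]
    · omega
    · omega
  rw [Subgroup.eq_bot_iff_forall]
  intro k hk
  refine isConj_one_left.1 (CfsgLib.Characters.isConj_of_irr_eq fun χ => ?_)
  obtain ⟨d, -, hd⟩ := CfsgLib.Characters.exists_degree_pos χ.2
  by_cases hdm : d = 1 ∨ d = m
  · exact h2 _ d χ.2 hd hdm k (derivedSeries_antitone G (by omega : 2 ≤ 3) hk)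
  refine hstep 2 _ d χ.2 hd (fun ψ e hψ he hed => h2 ψ e hψ he ?_) k hk
  have hdn : d = n := by
    rcases h _ d χ.2 hd with e1 | e1 | e1
    · exact absurd (Or.inl e1) hdm
    · exact absurd (Or.inr e1) hdm
    · exact e1
  rcases h ψ e hψ he with e1 | e1 | e1
  · exact Or.inl e1
  · exact Or.inr e1
  · omega

end CfsgLib.ThreeDegrees
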